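import Groth.Agent.L05.MinModel.Basic
import Groth.Agent.L05.GeomMult.Components
import Groth.Agent.L05.InterPair.Negative
import Groth.Agent.L08.Cube.DivSection
import Groth.Agent.L22.CurveAmple.Main
import Groth.Agent.L22.Inter.Point
import Groth.Agent.L18.AmplePull
import Groth.Agent.L18.AmpleOps
import Groth.Agent.S0054
import Groth.Agent.S1496
import Groth.Agent.S4413
import Groth.Prelude.Def_Neron

/-!
# Regular proper models of curves over a discrete valuation ring are projective
-/

set_option autoImplicit false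
set_option linter.style.haveILetI false
set_option backward.isDefEq.respectTransparency false

universe u

open CategoryTheory CategoryTheory.Limits AlgebraicGeometry TopologicalSpace
open Groth.L22

noncomputable section

namespace Groth.L05.ModelProj

open Groth.L18.GenLoc (tensHom genLocus_tensHom)

variable {R : Type u} [CommRing R] [IsDomain R] [IsDiscreteValuationRing R]
  {X : Over (Spec (CommRingCat.of R))}

theorem exists_closed_point {Z : Scheme.{u}} [CompactSpace Z] [Nonempty Z] :
    ∃ a : Z, IsClosed ({a} : Set Z) := by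
  obtain ⟨a, -, ha⟩ := (isClosed_univ (X := Z)).exists_closed_singleton Set.univ_nonempty
  exact ⟨a, ha⟩

/-- Through every closed point of the closed fibre passes a horizontal prime divisor. -/
theorem exists_horizontal [IsIntegral X.left] [IsLocallyNoetherian X.left] [Flat X.hom]
    (hreg : Models.IsRegularScheme X.left) (hle : topologicalKrullDim X.left ≤ 2) {x : X.left}
    (hx : x ∈ Models.specialFibreSet R X) (hd : ringKrullDim (X.left.presheaf.stalk x) = 2) :
    ∃ I : X.left.IdealSheafData, BlowUp.IsEffCartierIdeal I ∧ x ∈ (I.support : Set X.left) ∧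
      ∀ z ∈ (I.support : Set X.left), z ∈ Models.specialFibreSet R X → IsClosed ({z} : Set X.left) := by
  classical
  haveI := hreg x
  haveI := Groth.L01.isDomain_of_regular (X.left.presheaf.stalk x)
  obtain ⟨ϖ, hϖ⟩ := IsDiscreteValuationRing.exists_irreducible R
  let O := X.left.presheaf.stalk x
  let a : O := Models.stalkHom R X x ϖ
  have ha : a ≠ 0 := Groth.L05.FibreDecomp.stalkHom_ne_zero x hϖ.ne_zero
  have hA : (Ideal.span {a}).minimalPrimes.Finite := Ideal.finite_minimalPrimes_of_isNoetherianRing O _
  have hP : ∀ P ∈ (Ideal.span {a}).minimalPrimes, P.height ≤ 1 := fun P hP =>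
    Ideal.height_le_one_of_isPrincipal_of_mem_minimalPrimes _ P hP
  have hm2 : (IsLocalRing.maximalIdeal O).height = 2 := by
    have h := IsLocalRing.maximalIdeal_height_eq_ringKrullDim (R := O)
    rw [hd] at h
    exact WithBot.coe_injective (h.trans rfl)
  obtain ⟨c, hc, hcP⟩ : ∃ c ∈ IsLocalRing.maximalIdeal O, ∀ P ∈ (Ideal.span {a}).minimalPrimes, c ∉ P := by
    by_contra hcon
    push Not at hcon
    have hsub : (IsLocalRing.maximalIdeal O : Set O) ⊆ ⋃ P ∈ (hA.toFinset : Set (Ideal O)), ↑(id P) :=
      fun c hc => by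
        obtain ⟨P, hP1, hP2⟩ := hcon c hc
        exact Set.mem_biUnion (hA.mem_toFinset.2 hP1) hP2
    obtain ⟨P, hPm, hmP⟩ := (Ideal.subset_union_prime ⊥ ⊥
      (fun P hP' _ _ => (hA.mem_toFinset.1 hP').1.1)).1 hsub
    have h := Ideal.height_mono (show IsLocalRing.maximalIdeal O ≤ P from hmP)
    rw [hm2] at h
    exact absurd (h.trans (hP P (hA.mem_toFinset.1 hPm))) (by decide)
  have hcne : Ideal.span {c} ≠ ⊤ := fun h =>
    (IsLocalRing.mem_maximalIdeal _).1 hc (Ideal.span_singleton_eq_top.1 h)
  obtain ⟨q, hq⟩ := Ideal.nonempty_minimalPrimes hcne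
  haveI : q.IsPrime := hq.1.1
  have hcq : c ∈ q := hq.1.2 (Ideal.mem_span_singleton_self c)
  have hc0 : c ≠ 0 := fun h => by
    obtain ⟨P, hP'⟩ := Ideal.nonempty_minimalPrimes (show Ideal.span {a} ≠ ⊤ from fun ht => by
      exact (Groth.L05.FibreDecomp.mem_specialFibreSet.1 hx) ϖ
        (by rw [hϖ.maximalIdeal_eq]; exact Ideal.mem_span_singleton_self ϖ) (Ideal.span_singleton_eq_top.1 ht))
    exact hcP P hP' (h ▸ zero_mem P)
  have haq : a ∉ q := fun haq => by
    obtain ⟨P, hP', hPq⟩ := Ideal.exists_minimalPrimes_le (show Ideal.span {a} ≤ q from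
      (Ideal.span_singleton_le_iff_mem q).2 haq)
    haveI := hP'.1.1
    have hPne : P ≠ q := fun e => hcP P hP' (e ▸ hcq)
    have h1 : P.height < q.height := Ideal.height_strict_mono_of_isPrime (lt_of_le_of_ne hPq hPne)
    have h2 := Ideal.height_le_one_of_isPrincipal_of_mem_minimalPrimes _ q hq
    have h3 : P.height ≠ 0 := fun h0 => by
      rw [Ideal.height_eq_zero_iff_eq_bot] at h0
      exact ha (by simpa [h0] using hP'.1.2 (Ideal.mem_span_singleton_self a))
    exact h3 (Order.lt_one_iff.1 (h1.trans_le h2))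
  obtain ⟨U, hU⟩ := Groth.L05.PtSeq.exists_affine x
  letI : Algebra Γ(X.left, U.1) O := (X.left.presheaf.germ U.1 x hU).hom.toAlgebra
  haveI : IsLocalization.AtPrime O (U.2.primeIdealOf ⟨x, hU⟩).asIdeal := U.2.isLocalization_stalk ⟨x, hU⟩
  let P : Spec Γ(X.left, U.1) := ⟨q.comap (algebraMap Γ(X.left, U.1) O), inferInstance⟩
  let y := U.2.fromSpec P
  have hyU : y ∈ U.1 := LocalDim.fromSpec_mem U.2 P
  have hPy : U.2.primeIdealOf ⟨y, hyU⟩ = P := LocalDim.primeIdealOf_fromSpec U.2 P hyU
  have hyx : y ⤳ x := by
    conv_rhs => rw [← LocalDim.fromSpec_prime U.2 hU]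
    refine LocalDim.fromSpec_specializes U.2 fun b hb => ?_
    by_contra h
    exact Ideal.IsPrime.ne_top (I := q) inferInstance (Ideal.eq_top_of_isUnit_mem _ hb
      (IsLocalization.map_units O (⟨b, h⟩ : (U.2.primeIdealOf ⟨x, hU⟩).asIdeal.primeCompl)))
  have hyF : y ∉ Models.specialFibreSet R X := fun hy => by
    rw [← Groth.L05.FibreDecomp.support_specialFibreIdeal, CartierDecomp.mem_support_iff (U := U) hyU,
      Groth.L05.FibreDecomp.ideal_specialFibreIdeal, hPy] at hy
    have h : Groth.L05.FibreDecomp.res U ϖ ∈ P.asIdeal :=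
      hy (Ideal.mem_map_of_mem _ (by rw [hϖ.maximalIdeal_eq]; exact Ideal.mem_span_singleton_self ϖ))
    refine haq ?_
    have h' : (X.left.presheaf.germ U.1 x hU).hom (Groth.L05.FibreDecomp.res U ϖ) ∈ q := h
    rwa [Groth.L05.FibreDecomp.germ_res] at h'
  have hygen : y ≠ genericPoint X.left := fun h => by
    haveI : Nonempty U.1 := ⟨⟨x, hU⟩⟩
    have hbot : P.asIdeal = ⊥ := by
      rw [← hPy, show (⟨y, hyU⟩ : U.1) = ⟨genericPoint X.left, h ▸ hyU⟩ from Subtype.ext h,
        U.2.primeIdealOf_genericPoint, genericPoint_eq_bot_of_affine]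
      rfl
    obtain ⟨⟨b, s⟩, hbs⟩ := IsLocalization.surj (U.2.primeIdealOf ⟨x, hU⟩).asIdeal.primeCompl c
    have hb : b ∈ P.asIdeal := by
      show algebraMap Γ(X.left, U.1) O b ∈ q
      rw [← hbs]; exact q.mul_mem_right _ hcq
    rw [hbot, Ideal.mem_bot] at hb
    dsimp only at hbs
    rw [hb, map_zero] at hbs
    exact hc0 ((IsLocalization.map_units O s).mul_left_eq_zero.1 hbs)
  have hstalk : ∀ z : X.left, ringKrullDim (X.left.presheaf.stalk z) ≤ 2 := fun z =>
    (Groth.L15.CohFlat.ringKrullDim_stalk_le z).trans hle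
  have h0 : ∀ z : X.left, (0 : WithBot ℕ∞) ≤ ringKrullDim (X.left.presheaf.stalk z) := fun z =>
    ringKrullDim_nonneg_of_nontrivial
  have hdy : ringKrullDim (X.left.presheaf.stalk y) = 1 := by
    have h1 := Groth.L03.BlowPt.Factor.dim_add_one_le (genericPoint_specializes y) hygen.symm
    have h2 := (Groth.L03.BlowPt.Factor.dim_add_one_le hyx fun e => hyF (e ▸ hx)).trans (hstalk x)
    rw [Groth.L05.PtSeq.dim_stalk_genericPoint, zero_add] at h1
    refine le_antisymm ?_ h1
    exact ENat.WithBot.add_le_add_one_right_iff.1 (h2.trans (by norm_num))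
  let J := Scheme.IdealSheafData.vanishingIdeal (X := X.left) ⟨closure {y}, isClosed_closure⟩
  have hJs : (J.support : Set X.left) = closure {y} := by simp [J]
  haveI : IsIntegral J.subscheme := Groth.L22.Inter.isIntegral_pt y
  refine ⟨J, ?_, by rw [hJs]; exact specializes_iff_mem_closure.1 hyx, fun z hz hzF => ?_⟩
  · refine Groth.Agent.S1684.result X.left _ ?_ fun w _ => ?_
    · have h1 : IsGenericPoint (J.subschemeι (genericPoint ↥J.subscheme)) (closure ({y} : Set X.left)) := by
        have h := (genericPoint_spec J.subscheme).image J.subschemeι.continuous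
        rwa [Set.image_univ, J.range_subschemeι, J.support.isClosed.closure_eq, hJs] at h
      rw [h1.eq isGenericPoint_closure]
      exact hdy
    · haveI := hreg w
      exact ⟨Groth.L01.isDomain_of_regular _, Groth.L10.RegUFD.isUFD _⟩
  · rw [hJs] at hz
    have hzy : y ≠ z := fun e => hyF (e ▸ hzF)
    have hz2 : (2 : WithBot ℕ∞) ≤ ringKrullDim (X.left.presheaf.stalk z) := by
      have := Groth.L03.BlowPt.Factor.dim_add_one_le (specializes_iff_mem_closure.2 hz) hzy
      rw [hdy] at this
      exact this
    refine isClosed_of_closure_subset fun w hw => ?_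
    by_contra hne
    have := ((add_le_add hz2 le_rfl).trans (Groth.L03.BlowPt.Factor.dim_add_one_le
      (specializes_iff_mem_closure.2 hw) fun e => hne e.symm)).trans (hstalk w)
    exact absurd this (by decide)

/-- A section of an invertible module vanishing only on horizontal divisors through given points. -/
theorem exists_section_through [IsIntegral X.left] [IsLocallyNoetherian X.left] [Flat X.hom]
    (hreg : Models.IsRegularScheme X.left) (hle : topologicalKrullDim X.left ≤ 2) (T : Finset X.left)
    (hT : ∀ x ∈ T, x ∈ Models.specialFibreSet R X ∧ ringKrullDim (X.left.presheaf.stalk x) = 2) :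
    ∃ (L : X.left.Modules) (φ : Coh.structureModule X.left ⟶ L), PicF.IsInvertible L ∧
      (∀ x ∈ T, x ∉ CohB1.genLocus L φ) ∧
      ∀ z, z ∉ CohB1.genLocus L φ → z ∈ Models.specialFibreSet R X → IsClosed ({z} : Set X.left) := by
  classical
  induction T using Finset.induction_on with
  | empty =>
    refine ⟨_, 𝟙 _, Groth.L18.Ample.isInvertible_structureModule X.left,
      fun x hx => absurd hx (Finset.notMem_empty x), fun z hz => absurd ?_ hz⟩
    rw [Groth.L18.Ample.genLocus_id]; trivial
  | @insert x T hxT ih =>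
    obtain ⟨L, φ, hL, hLT, hLc⟩ := ih fun y hy => hT y (Finset.mem_insert_of_mem hy)
    obtain ⟨hxF, hxd⟩ := hT x (Finset.mem_insert_self x T)
    obtain ⟨I, hI, hxI, hIc⟩ := exists_horizontal hreg hle hxF hxd
    obtain ⟨N, σ, hN, -, hσ⟩ := Groth.L08.Cube.exists_section_of_effCartier I hI
    have hgl : ∀ z, z ∈ CohB1.genLocus N σ ↔ z ∉ (I.support : Set X.left) := fun z => Set.ext_iff.1 hσ z
    refine ⟨_, tensHom φ σ, Groth.L18.GenLoc.isInvertible_tensor hL hN, fun y hy hyg => ?_, fun z hz hzF => ?_⟩
    · rw [genLocus_tensHom hL hN] at hyg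
      rcases Finset.mem_insert.1 hy with rfl | hy
      · exact (hgl _).1 hyg.2 hxI
      · exact hLT y hy hyg.1
    · rw [genLocus_tensHom hL hN] at hz
      by_cases h1 : z ∈ CohB1.genLocus L φ
      · refine hIc z (by_contra fun h2 => hz ⟨h1, (hgl z).2 h2⟩) hzF
      · exact hLc z h1 hzF

/-- A regular proper flat surface over a discrete valuation ring carries an ample module. -/
theorem exists_ample [IsIntegral X.left] [Flat X.hom] [IsProper X.hom]
    (hreg : Models.IsRegularScheme X.left) (hdim : topologicalKrullDim X.left = 2) :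
    ∃ L : X.left.Modules, CohB1.IsAmple L := by
  classical
  haveI : IsNoetherianRing (CommRingCat.of R) := inferInstanceAs (IsNoetherianRing R)
  haveI : IsLocallyNoetherian X.left := LocallyOfFiniteType.isLocallyNoetherian X.hom
  obtain ⟨n, Γ, hΓ, -⟩ := Groth.L05.GeomMult.exists_componentList (X := X) hdim
  have hΓF : ∀ i c, (Γ i).ι c ∈ Models.specialFibreSet R X := fun i c => by
    have hi : Set.range ((Γ i).ι.base : (Γ i).curve.left → X.left) ∈ Models.fibreComponents R X :=
      hΓ.2 ▸ ⟨i, rfl⟩
    exact hi.1.2 ⟨c, rfl⟩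
  haveI : CompactSpace X.left := QuasiCompact.compactSpace_of_compactSpace X.hom
  have hstalk : ∀ z : X.left, ringKrullDim (X.left.presheaf.stalk z) ≤ 2 := fun z =>
    (Groth.L15.CohFlat.ringKrullDim_stalk_le z).trans hdim.le
  have hpts : ∀ i, ∃ c : (Γ i).curve.left, Models.genPtOf R X (Γ i) ≠ (Γ i).ι c ∧
      ringKrullDim (X.left.presheaf.stalk ((Γ i).ι c)) = 2 := fun i => by
    haveI : CompactSpace (Γ i).curve.left := (Γ i).ι.isClosedEmbedding.compactSpace
    obtain ⟨c, hc⟩ := exists_closed_point (Z := (Γ i).curve.left)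
    have hne : genericPoint (Γ i).curve.left ≠ c := fun h => by
      haveI : Subsingleton (Γ i).curve.left := ⟨fun a b => by
        have key : ∀ a, a = c := fun a => by
          have := (genericPoint_specializes a).mem_closure
          rw [h, hc.closure_eq] at this
          exact this
        rw [key a, key b]⟩
      haveI : DiscreteTopology (Γ i).curve.left := Subsingleton.discreteTopology
      have h0 := topologicalKrullDim_zero_of_discreteTopology (Γ i).curve.left
      rw [(Γ i).dim_eq] at h0
      exact absurd h0 (by decide)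
    refine ⟨c, fun h => hne ((Γ i).ι.isClosedEmbedding.injective h), le_antisymm (hstalk _) ?_⟩
    have h1 := Groth.L03.BlowPt.Factor.dim_add_one_le ((genericPoint_specializes c).map (Γ i).ι.continuous)
      fun e => hne ((Γ i).ι.isClosedEmbedding.injective e)
    rw [show ringKrullDim (X.left.presheaf.stalk ((Γ i).ι (genericPoint (Γ i).curve.left))) = 1 from
      Groth.L05.FibreDecomp.dim_genPtOf hreg hΓ i] at h1
    exact h1
  choose c hcne hcd using hpts
  obtain ⟨L, φ, hL, hφT, hφc⟩ := exists_section_through hreg hdim.le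
    (Finset.univ.image fun i => (Γ i).ι (c i)) (fun x hx => by
      obtain ⟨i, -, rfl⟩ := Finset.mem_image.1 hx
      exact ⟨hΓF i _, hcd i⟩)
  let S := Spec (CommRingCat.of R)
  let s : S := IsLocalRing.closedPoint R
  let j := X.hom.fiberι s
  have hrange : Set.range j = Models.specialFibreSet R X := X.hom.range_fiberι s
  letI : (X.hom.fiber s).Over (Spec (CommRingCat.of (S.residueField s))) := ⟨X.hom.fiberToSpecResidueField s⟩
  haveI : IsProper (X.hom.fiber s ↘ Spec (CommRingCat.of (S.residueField s))) :=
    MorphismProperty.pullback_snd (P := @IsProper) X.hom _ inferInstance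
  have hd1 : topologicalKrullDim ↥(X.hom.fiber s) ≤ 1 := by
    rw [IsHomeomorph.topologicalKrullDim_eq _
      (j.isEmbedding.toHomeomorph.trans (Homeomorph.setCongr hrange)).isHomeomorph]
    refine Groth.L05.GeomMult.dim_le_one_of_proper_closed hdim (Models.isClosed_specialFibreSet R X) fun h => ?_
    obtain ⟨ϖ, hϖ⟩ := IsDiscreteValuationRing.exists_irreducible R
    haveI := hreg (genericPoint X.left)
    haveI := Groth.L01.isDomain_of_regular (X.left.presheaf.stalk (genericPoint X.left))
    have hg : genericPoint X.left ∈ Models.specialFibreSet R X := h.ge trivial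
    have hF : IsField (X.left.presheaf.stalk (genericPoint X.left)) := by
      haveI : Ring.KrullDimLE 0 (X.left.presheaf.stalk (genericPoint X.left)) :=
        Ring.krullDimLE_iff.2 (Groth.L05.PtSeq.dim_stalk_genericPoint (Y := X.left)).le
      exact Ring.KrullDimLE.isField_of_isDomain
    letI := hF.toField
    exact Groth.L05.FibreDecomp.mem_specialFibreSet.1 hg ϖ
      (by rw [hϖ.maximalIdeal_eq]; exact Ideal.mem_span_singleton_self ϖ)
      (isUnit_iff_ne_zero.2 (Groth.L05.FibreDecomp.stalkHom_ne_zero _ hϖ.ne_zero))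
  let e := (Groth.L29.LocFree.pullbackUnitIso j).symm
  let ψ : Coh.structureModule (X.hom.fiber s) ⟶ (Scheme.Modules.pullback j).obj L :=
    e.hom ≫ (Scheme.Modules.pullback j).map φ
  have hgl : ∀ w, w ∈ CohB1.genLocus _ ψ ↔ j w ∈ CohB1.genLocus L φ := fun w => by
    rw [Groth.Agent.S4413.result j L hL φ e]
    exact Iff.rfl
  have hjF : ∀ w, j w ∈ Models.specialFibreSet R X := fun w => hrange.subset ⟨w, rfl⟩
  have hclj : ∀ w, IsClosed ({j w} : Set X.left) → IsClosed ({w} : Set (X.hom.fiber s)) := fun w h => by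
    have h2 := h.preimage j.continuous
    rwa [show j ⁻¹' {j w} = {w} from Set.ext fun v => j.isEmbedding.injective.eq_iff] at h2
  have hamp : CohB1.IsAmple ((Scheme.Modules.pullback j).obj L) :=
    (Groth.L22.CurveAmple.isAmple_and_isAffineOpen (S.residueField s) hd1
      (Groth.L18.Ample.isInvertible_pullback j hL) ψ
      (fun w hw => hclj w (hφc (j w) (fun h => hw ((hgl w).2 h)) (hjF w)))
      (fun w hw => by
        obtain ⟨i, a, ha⟩ := Groth.L05.FibreDecomp.exists_component hΓ (hjF w)
        have hwg : j w = Models.genPtOf R X (Γ i) := by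
          by_contra hne
          refine hw (hclj w ?_)
          have h1 := Groth.L03.BlowPt.Factor.dim_add_one_le
            (show Models.genPtOf R X (Γ i) ⤳ j w from ha ▸ (genericPoint_specializes a).map (Γ i).ι.continuous)
            fun e => hne e.symm
          rw [Groth.L05.FibreDecomp.dim_genPtOf hreg hΓ i] at h1
          refine isClosed_of_closure_subset fun v hv => ?_
          by_contra hne'
          exact absurd (((add_le_add h1 le_rfl).trans (Groth.L03.BlowPt.Factor.dim_add_one_le
            (specializes_iff_mem_closure.2 hv) fun e => hne' e.symm)).trans (hstalk v)) (by decide)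
        obtain ⟨z, hz⟩ := hrange.symm.subset (hΓF i (c i))
        refine ⟨z, j.isEmbedding.isInducing.specializes_iff.1 ?_, fun h => ?_⟩
        · rw [hwg, hz]
          exact (genericPoint_specializes (c i)).map (Γ i).ι.continuous
        · have h' := (hgl z).1 h
          rw [hz] at h'
          exact hφT _ (Finset.mem_image_of_mem _ (Finset.mem_univ i)) h')).1
  obtain ⟨V, hsV, hV⟩ := Groth.Agent.S0054.result X.hom L hL s hamp
  have hVtop : V = ⊤ := by
    refine eq_top_iff.2 fun t _ => ?_
    exact (IsLocalRing.specializes_closedPoint (R := R) t).mem_open V.2 hsV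
  have h1 := hV ⊤ hVtop.ge (isAffineOpen_top S)
  refine ⟨L, (Groth.L18.Ample.isAmple_pullback_iso_iff X.left.topIso).1 ?_⟩
  exact (Groth.L18.Ample.isAmple_restrict_iff_pullback _).1 h1

/-- A regular proper flat surface over a discrete valuation ring is projective. -/
theorem isProjectiveOver [IsIntegral X.left] [Flat X.hom] [IsProper X.hom]
    (hreg : Models.IsRegularScheme X.left) (hdim : topologicalKrullDim X.left = 2) :
    Neron.IsProjectiveOver R X := by
  obtain ⟨L, hL⟩ := exists_ample hreg hdim
  exact ((Groth.Agent.S1496.result ⟨_, Groth.L18.Ample.isAmple_structureModule⟩ X.hom).1.2 ⟨inferInstance, L, hL⟩)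

/-- A regular proper model is an arithmetic surface. -/
theorem isArithSurface {C Z : Scheme.{u}} {f : C ⟶ Spec (CommRingCat.of (FractionRing R))}
    {p : Z ⟶ Spec (CommRingCat.of R)} (hC : Curve.IsSmoothProperCurve (FractionRing R) C f)
    (hZ : Models.IsRegularProperModel R Z p C f) : ArSurf.IsArithSurface R (Over.mk p) := by
  obtain ⟨hint, -, hdim, -⟩ := Groth.L05.MinModel.surface hC hZ
  haveI : IsIntegral (Over.mk p).left := hint
  haveI : Flat (Over.mk p).hom := hZ.1.1
  haveI : IsProper (Over.mk p).hom := hZ.2.1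
  exact ⟨hZ.2.2, hint, hdim, hZ.1.1, isProjectiveOver (X := Over.mk p) hZ.2.2 hdim⟩

end Groth.L05.ModelProj
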